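import Groth.Agent.PurityLib.OpenPurity
import Groth.Agent.Depth.Basic
/-!
Finite extension of depth two of a finite étale cover of an open with complement of depth two.
-/

set_option autoImplicit false
set_option linter.style.haveILetI false
universe u
open AlgebraicGeometry CategoryTheory CategoryTheory.Limits IsLocalRing TopologicalSpace Opposite
open Groth.Agent.PurityLib

namespace Groth.Agent.PushFinite

variable {X : Scheme.{u}} [IsLocallyNoetherian X] (U : X.Opens) {Y : Scheme.{u}} (f : Y ⟶ U.toScheme) [IsFinite f] [Etale f]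

theorem finite_app (hdepth : ∀ x : X, x ∉ U → (2 : ℕ∞) ≤ LocCoh.depth (X.presheaf.stalk x) (X.presheaf.stalk x))
    (V : X.Opens) (hV : IsAffineOpen V) :
    ((f ≫ U.ι).app V).hom.Finite ∧ ∃ x ∈ FlatSecLib.opensIdeal U V, ∃ y ∈ FlatSecLib.opensIdeal U V,
      letI := ((f ≫ U.ι).app V).hom.toAlgebra
      RegPair Γ(Y, (f ≫ U.ι) ⁻¹ᵁ V) x y := by
  haveI : IsNoetherianRing Γ(X, V) := IsLocallyNoetherian.component_noetherian ⟨V, hV⟩
  let g : Y ⟶ X := f ≫ U.ι
  haveI : Etale g := inferInstanceAs (Etale (f ≫ U.ι))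
  haveI : QuasiCompact U.ι := inferInstance
  haveI : QuasiCompact g := inferInstanceAs (QuasiCompact (f ≫ U.ι))
  haveI : QuasiSeparated g := inferInstanceAs (QuasiSeparated (f ≫ U.ι))
  let W0 : Y.Opens := g ⁻¹ᵁ V
  have hc : IsCompact (W0 : Set Y) := g.isCompact_preimage hV.isCompact
  have hq : IsQuasiSeparated (W0 : Set Y) := g.isQuasiSeparated_preimage hV.isQuasiSeparated
  let φ : Γ(X, V) →+* Γ(Y, W0) := (g.app V).hom
  let J := FlatSecLib.opensIdeal U V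
  have hJU : ∀ h ∈ J, X.basicOpen h ≤ U.ι.opensRange := fun h hh => by rw [U.opensRange_ι]; exact hh
  have hWaff : ∀ h ∈ J, IsAffineOpen (U.ι ⁻¹ᵁ X.basicOpen h) := fun h hh =>
    (hV.basicOpen h).preimage_of_isOpenImmersion U.ι (hJU h hh)
  have hVh : ∀ h, g ⁻¹ᵁ X.basicOpen h = Y.basicOpen (φ h) := fun h => Scheme.preimage_basicOpen g h
  have hVaff : ∀ h ∈ J, IsAffineOpen (Y.basicOpen (φ h)) := fun h hh => hVh h ▸ (hWaff h hh).preimage f
  have het : ∀ h ∈ J, ((Y.presheaf.map (homOfLE (Y.basicOpen_le (φ h))).op).hom.comp φ).Etale := fun h hh =>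
    HasRingHomProperty.appLE @Etale g inferInstance ⟨V, hV⟩ ⟨_, hVaff h hh⟩ (Y.basicOpen_le _)
  letI := φ.toAlgebra
  have hfin : ∀ h ∈ J, ∃ M : Submodule Γ(X, V) Γ(Y, W0), M.FG ∧
      ∀ b : Γ(Y, W0), ∃ i : ℕ, h ^ i • b ∈ M := fun h hh => by
    haveI : IsIso (U.ι.app (X.basicOpen h)) := Scheme.Hom.isIso_app U.ι _ (hJU h hh)
    have hf : (g.app (X.basicOpen h)).hom.Finite := by
      show ((f ≫ U.ι).app (X.basicOpen h)).hom.Finite
      rw [Scheme.Hom.comp_app]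
      exact (f.finite_app _ (hWaff h hh)).comp
        (RingHom.Finite.of_surjective _ (ConcreteCategory.bijective_of_isIso (U.ι.app (X.basicOpen h))).2)
    haveI : IsLocalization.Away (algebraMap Γ(X, V) Γ(Y, W0) h) Γ(Y, Y.basicOpen (φ h)) :=
      isLocalization_basicOpen_of_qcqs hc hq (φ h)
    haveI := hV.isLocalization_basicOpen h
    refine exists_fg_pow_smul_mem (N := Γ(Y, Y.basicOpen (φ h))) h
      (algebraMap Γ(X, V) Γ(X, X.basicOpen h)) (fun c => IsLocalization.Away.surj h c)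
      (g.appLE (X.basicOpen h) (Y.basicOpen (φ h)) (hVh h).ge).hom ?_ (fun a => ?_)
    · rw [Scheme.Hom.appLE, CommRingCat.hom_comp]
      have : IsIso (Y.presheaf.map (homOfLE (hVh h).ge).op) := by
        rw [show (homOfLE (hVh h).ge) = eqToHom (hVh h).symm from Subsingleton.elim _ _]
        infer_instance
      exact (RingHom.Finite.of_surjective _ (ConcreteCategory.bijective_of_isIso _).2).comp hf
    · show (X.presheaf.map _ ≫ g.appLE _ _ _).hom a = (g.app V ≫ Y.presheaf.map _).hom a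
      rw [Scheme.Hom.map_appLE]
      rfl
  have hcov : ∀ z ∈ W0, ∃ h ∈ J, z ∈ Y.basicOpen (φ h) := fun z hz => by
    obtain ⟨a, hale, hza⟩ := hV.exists_basicOpen_le (V := U) ⟨g z, (f z).2⟩ hz
    exact ⟨a, hale, hVh a ▸ hza⟩
  obtain ⟨x, hxJ, y, hyJ, hxn, -, hxy⟩ := FlatSecLib.exists_pair U hdepth hV
  have hxyR : RegPair Γ(X, V) x y := ⟨fun m hm => (mul_right_mem_nonZeroDivisors_eq_zero_iff hxn).1 (by
    rw [mul_comm]; exact hm), fun m n hmn => by
      obtain ⟨w, hw⟩ := Ideal.mem_span_singleton'.1 (hxy m (Ideal.mem_span_singleton'.2 ⟨n, by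
        rw [mul_comm]; exact hmn.symm⟩))
      exact ⟨w, by rw [smul_eq_mul, ← hw, mul_comm]⟩⟩
  have hB : RegPair Γ(Y, W0) x y := regPair_sections_on φ J hxyR het hcov
  have hlo : ∀ h ∈ J, Algebra.Etale Γ(X, V) (Lo h Γ(Y, W0)) := fun h hh => etale_lo_on φ hc hq h (het h hh)
  obtain ⟨Mx, hMx, hMx'⟩ := hfin x hxJ
  obtain ⟨My, hMy, hMy'⟩ := hfin y hyJ
  haveI := hlo x hxJ
  haveI := flat_localizedModule_of_etale (A := Γ(Y, W0)) x
  haveI : Module.Finite Γ(X, V) Γ(Y, W0) := finite_of_regPair hxyR hB (Mx ⊔ My) (hMx.sup hMy)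
    (fun b => (hMx' b).imp fun i hi => Submodule.mem_sup_left hi)
    (fun b => (hMy' b).imp fun i hi => Submodule.mem_sup_right hi)
  exact ⟨inferInstanceAs (Module.Finite Γ(X, V) Γ(Y, W0)), x, hxJ, y, hyJ, hB⟩

theorem two_le_depth_stalk {X Z : Scheme.{u}} [IsLocallyNoetherian Z] (π : Z ⟶ X) [IsAffineHom π] (U : X.Opens)
    {V : X.Opens} (hV : IsAffineOpen V) {x y : Γ(X, V)} (hx : x ∈ FlatSecLib.opensIdeal U V)
    (hy : y ∈ FlatSecLib.opensIdeal U V)
    (h : RegPair (R := Γ(Z, π ⁻¹ᵁ V)) Γ(Z, π ⁻¹ᵁ V) ((π.app V).hom x) ((π.app V).hom y))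
    (z : Z) (hzV : π z ∈ V) (hz : π z ∉ U) :
    (2 : ℕ∞) ≤ LocCoh.depth (Z.presheaf.stalk z) (Z.presheaf.stalk z) := by
  have hW : IsAffineOpen (π ⁻¹ᵁ V) := hV.preimage π
  letI := TopCat.Presheaf.algebra_section_stalk Z.presheaf (⟨z, hzV⟩ : (π ⁻¹ᵁ V : Z.Opens))
  haveI := hW.isLocalization_stalk ⟨z, hzV⟩
  haveI : Module.Flat Γ(Z, π ⁻¹ᵁ V) (Z.presheaf.stalk z) :=
    IsLocalization.flat _ (hW.primeIdealOf ⟨z, hzV⟩).asIdeal.primeCompl
  have hO : RegPair (R := Γ(Z, π ⁻¹ᵁ V)) (Z.presheaf.stalk z) ((π.app V).hom x) ((π.app V).hom y) :=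
    regPair_of_flat h
  have hm : ∀ r ∈ FlatSecLib.opensIdeal U V,
      (Z.presheaf.germ (π ⁻¹ᵁ V) z hzV).hom ((π.app V).hom r) ∈ maximalIdeal (Z.presheaf.stalk z) := by
    intro r hr
    rw [mem_maximalIdeal, mem_nonunits_iff]
    intro hu
    have hzb : z ∈ Z.basicOpen ((π.app V).hom r) := (Z.mem_basicOpen _ z hzV).2 hu
    rw [← Scheme.preimage_basicOpen] at hzb
    exact hz (hr hzb)
  refine (Depth.le_idealDepth_iff ?_ 2).2
    ⟨[(Z.presheaf.germ (π ⁻¹ᵁ V) z hzV).hom ((π.app V).hom x),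
      (Z.presheaf.germ (π ⁻¹ᵁ V) z hzV).hom ((π.app V).hom y)], rfl, ?_, ?_⟩
  · rw [smul_eq_mul, Ideal.mul_top]
    exact (maximalIdeal.isMaximal _).ne_top
  · intro r hr
    simp only [List.mem_cons, List.not_mem_nil, or_false] at hr
    rcases hr with rfl | rfl
    · exact hm x hx
    · exact hm y hy
  · refine (RingTheory.Sequence.isWeaklyRegular_cons_iff _ _ _).2 ⟨fun a b hab => ?_,
      (RingTheory.Sequence.isWeaklyRegular_cons_iff _ _ _).2 ⟨fun a b hab => ?_,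
        RingTheory.Sequence.IsWeaklyRegular.nil _ _⟩⟩
    · refine sub_eq_zero.1 (hO.1 (a - b) ?_)
      rw [smul_sub, sub_eq_zero]
      exact hab
    · obtain ⟨a, rfl⟩ := Submodule.Quotient.mk_surjective _ a
      obtain ⟨b, rfl⟩ := Submodule.Quotient.mk_surjective _ b
      simp only [← Submodule.Quotient.mk_smul, Submodule.Quotient.eq, Submodule.mem_smul_pointwise_iff_exists,
        Submodule.mem_top, true_and] at hab ⊢
      obtain ⟨w, hw⟩ := hab
      obtain ⟨m, hm'⟩ := hO.2 (a - b) w (by rw [smul_sub]; exact hw.symm)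
      exact ⟨m, hm'.symm⟩

theorem depth_two {Z : Scheme.{u}} (π : Z ⟶ X) [IsFinite π] (k : Y ⟶ Z) (hk : k ≫ π = f ≫ U.ι)
    (hdepth : ∀ x : X, x ∉ U → (2 : ℕ∞) ≤ LocCoh.depth (X.presheaf.stalk x) (X.presheaf.stalk x))
    (hbij : ∀ V : X.Opens, IsAffineOpen V → Function.Bijective (k.app (π ⁻¹ᵁ V)))
    (z : Z) (hz : π z ∉ U) :
    (2 : ℕ∞) ≤ LocCoh.depth (Z.presheaf.stalk z) (Z.presheaf.stalk z) := by
  haveI : IsLocallyNoetherian Z := LocallyOfFiniteType.isLocallyNoetherian π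
  obtain ⟨V, hV, hzV, -⟩ := exists_isAffineOpen_mem_and_subset (U := ⊤) (show π z ∈ (⊤ : X.Opens) from trivial)
  obtain ⟨-, x, hx, y, hy, hB⟩ := finite_app U f hdepth V hV
  subst_vars
  refine two_le_depth_stalk π U hV hx hy ?_ z hzV hz
  have hpre : k ⁻¹ᵁ (π ⁻¹ᵁ V) = (f ≫ U.ι) ⁻¹ᵁ V := by rw [← hk, Scheme.Hom.comp_preimage]
  let θ : Γ(Z, π ⁻¹ᵁ V) →+* Γ(Y, (f ≫ U.ι) ⁻¹ᵁ V) := (k.app (π ⁻¹ᵁ V) ≫ Y.presheaf.map (eqToHom hpre.symm).op).hom
  have hθ : Function.Bijective θ :=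
    (ConcreteCategory.bijective_of_isIso (Y.presheaf.map (eqToHom hpre.symm).op)).comp (hbij V hV)
  have hc : ∀ r : Γ(X, V), θ ((π.app V).hom r) = ((f ≫ U.ι).app V).hom r := by
    intro r
    show (π.app V ≫ k.app (π ⁻¹ᵁ V) ≫ Y.presheaf.map _).hom r = _
    have e : π.app V ≫ k.app (π ⁻¹ᵁ V) ≫ Y.presheaf.map (eqToHom hpre.symm).op = (f ≫ U.ι).app V := by
      rw [Scheme.Hom.congr_app hk.symm V, Scheme.Hom.comp_app]
      exact (Category.assoc _ _ _).symm
    rw [e]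
  letI := ((f ≫ U.ι).app V).hom.toAlgebra
  refine ⟨fun m hm => hθ.1 ?_, fun m n hmn => ?_⟩
  · rw [map_zero]
    refine hB.1 _ ?_
    rw [Algebra.smul_def, RingHom.algebraMap_toAlgebra, ← hc, ← map_mul]
    exact (congrArg θ hm).trans (map_zero _)
  · obtain ⟨w, hw⟩ := hB.2 (θ m) (θ n) (by
      simp only [Algebra.smul_def, RingHom.algebraMap_toAlgebra, ← hc, ← map_mul]
      exact congrArg θ hmn)
    obtain ⟨w, rfl⟩ := hθ.2 w
    refine ⟨w, hθ.1 ?_⟩
    rw [hw, Algebra.smul_def, RingHom.algebraMap_toAlgebra, ← hc, ← map_mul]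
    rfl

theorem exists_finite_extension
    (hdepth : ∀ x : X, x ∉ U → (2 : ℕ∞) ≤ LocCoh.depth (X.presheaf.stalk x) (X.presheaf.stalk x)) :
    ∃ (Z : Scheme.{u}) (π : Z ⟶ X) (j : Y ⟶ Z), IsFinite π ∧ IsPullback j f π U.ι ∧
      ∀ z : Z, π z ∉ U → (2 : ℕ∞) ≤ LocCoh.depth (Z.presheaf.stalk z) (Z.presheaf.stalk z) := by
  have hfe := finite_app U f hdepth
  let g : Y ⟶ X := f ≫ U.ι
  haveI : QuasiCompact g := inferInstanceAs (QuasiCompact (f ≫ U.ι))
  haveI : QuasiSeparated g := inferInstanceAs (QuasiSeparated (f ≫ U.ι))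
  let π : g.normalization ⟶ X := g.fromNormalization
  -- on an affine open the integral closure is everything
  have hall : ∀ V : X.affineOpens, letI := (g.app V.1).hom.toAlgebra
      Function.Bijective (integralClosure Γ(X, V.1) Γ(Y, g ⁻¹ᵁ V.1)).val := fun V => by
    letI := (g.app V.1).hom.toAlgebra
    haveI : Module.Finite Γ(X, V.1) Γ(Y, g ⁻¹ᵁ V.1) := (hfe V.1 V.2).1
    exact ⟨Subtype.val_injective, fun b => ⟨⟨b, Algebra.IsIntegral.isIntegral b⟩, rfl⟩⟩
  have hdiag : ∀ V : X.affineOpens, (g.normalizationDiagramMap.app (op V.1)).hom.Finite := fun V => by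
    letI := (g.app V.1).hom.toAlgebra
    haveI : Module.Finite Γ(X, V.1) Γ(Y, g ⁻¹ᵁ V.1) := (hfe V.1 V.2).1
    let e : integralClosure Γ(X, V.1) Γ(Y, g ⁻¹ᵁ V.1) ≃ₐ[Γ(X, V.1)] Γ(Y, g ⁻¹ᵁ V.1) :=
      AlgEquiv.ofBijective _ (hall V)
    exact RingHom.finite_algebraMap.2 (Module.Finite.equiv e.symm.toLinearEquiv)
  have hloc : ∀ (P : MorphismProperty Scheme.{u}) [IsZariskiLocalAtTarget P],
      (∀ V : X.affineOpens, P (Spec.map (g.normalizationDiagramMap.app (op V.1)))) → P π := fun P _ hP => by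
    rw [IsZariskiLocalAtTarget.iff_of_iSup_eq_top (P := P) _ (iSup_affineOpens_eq_top _)]
    intro V
    let e := IsOpenImmersion.isoOfRangeEq (π ⁻¹ᵁ V.1).ι (g.normalizationOpenCover.f V)
      (by simpa using congr($(g.fromNormalization_preimage V).1))
    rw [← MorphismProperty.cancel_left_of_respectsIso P e.inv,
      ← MorphismProperty.cancel_right_of_respectsIso P _ V.2.isoSpec.hom]
    convert! hP V
    rw [← cancel_mono V.2.fromSpec]
    simp [IsAffineOpen.isoSpec_hom, e, π, Scheme.Hom.ι_fromNormalization]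
    rfl
  haveI hπf : IsFinite π := hloc @IsFinite fun V => (IsFinite.SpecMap_iff _).2 (hdiag V)
  have hbij : ∀ V : X.Opens, IsAffineOpen V → Function.Bijective (g.toNormalization.app (π ⁻¹ᵁ V)) := by
    intro V hV
    rw [g.toNormalization_app_preimage ⟨V, hV⟩]
    letI := (g.app V).hom.toAlgebra
    haveI : IsIso (CommRingCat.ofHom (integralClosure Γ(X, V) Γ(Y, g ⁻¹ᵁ V)).val.toRingHom) :=
      (ConcreteCategory.isIso_iff_bijective _).2 (hall ⟨V, hV⟩)
    exact @ConcreteCategory.bijective_of_isIso _ _ _ _ _ _ _ _ _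
      (@IsIso.comp_isIso _ _ _ _ _ _ _ inferInstance (@IsIso.comp_isIso _ _ _ _ _ _ _ this (Functor.map_isIso _ _)))
  refine ⟨g.normalization, π, g.toNormalization, hπf, and_comm.1 ⟨fun z hz => ?_, ?_⟩⟩
  · exact depth_two U f π g.toNormalization g.toNormalization_fromNormalization hdepth hbij z hz
  let U' : g.normalization.Opens := π ⁻¹ᵁ U
  have hsrc : g.toNormalization ⁻¹ᵁ U' = ⊤ := by
    show (g.toNormalization ≫ π) ⁻¹ᵁ U = ⊤
    rw [Scheme.Hom.toNormalization_fromNormalization]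
    exact top_le_iff.1 fun z _ => (f z).2
  have hiso : IsIso (g.toNormalization ∣_ U') := by
    let S := {V : X.affineOpens // V.1 ≤ U}
    have hS : ⨆ V : S, U'.ι ⁻¹ᵁ (π ⁻¹ᵁ V.1.1) = ⊤ := by
      refine top_le_iff.1 fun z _ => ?_
      obtain ⟨_, ⟨V, hV, rfl⟩, hzV, hVU⟩ :=
        X.isBasis_affineOpens.exists_subset_of_mem_open (a := π z.1) z.2 U.2
      exact Opens.mem_iSup.2 ⟨⟨⟨V, hV⟩, hVU⟩, hzV⟩
    rw [← MorphismProperty.isomorphisms.iff,
      IsZariskiLocalAtTarget.iff_of_iSup_eq_top (P := MorphismProperty.isomorphisms Scheme) _ hS]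
    rintro ⟨V, hVU⟩
    have hle : π ⁻¹ᵁ V.1 ≤ U' := π.preimage_mono hVU
    rw [(MorphismProperty.isomorphisms Scheme).arrow_mk_iso_iff (morphismRestrictRestrict _ _ _)]
    have himg : U'.ι ''ᵁ (U'.ι ⁻¹ᵁ (π ⁻¹ᵁ V.1)) = π ⁻¹ᵁ V.1 := by
      rw [Scheme.Hom.image_preimage_eq_opensRange_inf, U'.opensRange_ι]
      exact inf_eq_right.2 hle
    rw [himg, MorphismProperty.isomorphisms.iff]
    haveI : IsAffine (π ⁻¹ᵁ V.1 : g.normalization.Opens).toScheme := V.2.preimage π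
    haveI : IsAffine (g.toNormalization ⁻¹ᵁ (π ⁻¹ᵁ V.1) : Y.Opens).toScheme := by
      show IsAffineOpen (g.toNormalization ⁻¹ᵁ (π ⁻¹ᵁ V.1))
      rw [← Scheme.Hom.comp_preimage, Scheme.Hom.toNormalization_fromNormalization]
      exact (V.2.preimage_of_isOpenImmersion U.ι (by rw [U.opensRange_ι]; exact hVU)).preimage f
    have happ : IsIso (g.toNormalization.app (π ⁻¹ᵁ V.1)) := by
      rw [g.toNormalization_app_preimage V]
      letI := (g.app V.1).hom.toAlgebra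
      haveI : IsIso (CommRingCat.ofHom (integralClosure Γ(X, V.1) Γ(Y, g ⁻¹ᵁ V.1)).val.toRingHom) :=
        (ConcreteCategory.isIso_iff_bijective _).2 (hall V)
      refine @IsIso.comp_isIso _ _ _ _ _ _ _ inferInstance (@IsIso.comp_isIso _ _ _ _ _ _ _ this ?_)
      exact Functor.map_isIso _ _
    haveI : IsIso (g.toNormalization ∣_ π ⁻¹ᵁ V.1).appTop := by
      rw [morphismRestrict_appTop]
      have e : π ⁻¹ᵁ V.1 = (π ⁻¹ᵁ V.1).ι ''ᵁ ⊤ := by simp
      have happ' : ∀ W, W = π ⁻¹ᵁ V.1 → IsIso (g.toNormalization.app W) := fun W hW => hW ▸ happ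
      exact @IsIso.comp_isIso _ _ _ _ _ _ _ (happ' _ e.symm) (Functor.map_isIso _ _)
    exact isIso_of_isAffine_of_isIso_appTop _
  haveI : IsIso ((g.toNormalization ⁻¹ᵁ U').ι) := by
    rw [hsrc]; exact inferInstanceAs (IsIso (Scheme.topIso Y).hom)
  have hfac : g.toNormalization = inv (g.toNormalization ⁻¹ᵁ U').ι ≫ (g.toNormalization ∣_ U') ≫ U'.ι := by
    rw [morphismRestrict_ι, IsIso.inv_hom_id_assoc]
  haveI : IsOpenImmersion g.toNormalization := by rw [hfac]; infer_instance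
  refine (IsOpenImmersion.isPullback f g.toNormalization U.ι π
    (g.toNormalization_fromNormalization) ?_).flip
  rw [U.opensRange_ι]
  refine le_antisymm (fun z hz => ?_) ?_
  · refine ⟨inv (g.toNormalization ∣_ U') ⟨z, hz⟩ |>.1, ?_⟩
    have := congrArg (fun k : U'.toScheme ⟶ U'.toScheme => k ⟨z, hz⟩) (IsIso.inv_hom_id (g.toNormalization ∣_ U'))
    simp only [Scheme.Hom.comp_apply] at this
    exact (morphismRestrict_base_coe _ _ _).symm.trans (congrArg Subtype.val this)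
  · rintro _ ⟨z, rfl⟩
    show π (g.toNormalization z) ∈ U
    rw [← Scheme.Hom.comp_apply, Scheme.Hom.toNormalization_fromNormalization]
    exact (f z).2
where
  isIso_of_isAffine_of_isIso_appTop {A B : Scheme.{u}} (k : A ⟶ B) [IsAffine A] [IsAffine B] [IsIso k.appTop] :
      IsIso k := by
    have h := HasAffineProperty.iff_of_isAffine (P := MorphismProperty.isomorphisms Scheme.{u}) (f := k)
    exact h.2 ⟨inferInstance, inferInstance⟩

end Groth.Agent.PushFinite
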